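import Cfsg.Agent.H802.TE.Defs

/-!
# S5261, part E, (B) for `p = 2`: an essential subgroup `E ≤ Q2` that is not in a line contains `Z3`
-/

set_option autoImplicit false
set_option linter.unusedSectionVars false

namespace Cfsg.Agent.H167.TE

open Cfsg Cfsg.FusionSystem Cfsg.Agent.H756.PU
open Cfsg.Agent.H765.D3 Cfsg.Agent.H765.D3.Sy
open Cfsg.Agent.Hex.Defs (sh cr nm tr)
open Cfsg.Agent.H802.TE
open scoped commutatorElement

universe u

section Gen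

variable {F K : Type*} [Field F] [Field K] [Algebra F K] {φ : K ≃ₐ[F] K} [Cub φ]

theorem comm_Q2_mem {x y : Sy φ} (hx : x.x6 = 0) (hy : y.x6 = 0) : ⁅x, y⁆ ∈ Z3 φ := by
  refine ⟨comm_x1 x y, comm_x6 x y, ?_⟩
  rw [comm_x5, hx, hy, zero_smul, zero_smul, sub_zero]

theorem comm_Q2_x3 {x y : Sy φ} (hx : x.x6 = 0) (hy : y.x6 = 0) :
    (⁅x, y⁆).x3 = cr φ x.x1 y.x5 - cr φ y.x1 x.x5 := by
  have h := congrArg Sy.x3 (comm_mul x y)
  rw [mul_x3, mul_x3, mul_x3, comm_x1, cr_zero_left, sh_zero, smul_zero, hx, hy, zero_smul, zero_smul] at h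
  simp only [add_zero] at h
  rw [show cr φ x.x1 y.x5 = (x.x3 + y.x3 + cr φ x.x1 y.x5) - x.x3 - y.x3 by ring, h]
  ring

theorem two_F (h2 : (2 : K) = 0) : (2 : F) = 0 := by
  apply (algebraMap F K).injective
  rw [map_ofNat, h2, map_zero]

theorem sq_Z2 (h2 : (2 : K) = 0) {y : Sy φ} (hy : y ∈ Z2 φ) : y * y = 1 := by
  obtain ⟨h1, h6, h5, h3⟩ := hy
  have hF : ∀ t : F, t + t = 0 := fun t => by rw [← two_mul, two_F (F := F) h2, zero_mul]
  ext
  · rw [mul_x1, h1, add_zero, one_x1]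
  · rw [mul_x6, h6, add_zero, one_x6]
  · rw [mul_x5, h5, h6, zero_smul, add_zero, add_zero, one_x5]
  · rw [mul_x3, h3, h1, h6, zero_smul, cr_zero_left, add_zero, add_zero, add_zero, one_x3]
  · rw [mul_x2, h1, h6, sh_zero, zero_mul, zero_mul, zero_mul, tr_zero, add_zero, add_zero, add_zero, hF, one_x2]
  · rw [mul_x4, h1, h6, h5, h3, sh_zero]
    simp only [zero_mul, mul_zero, add_zero, smul_zero, tr_zero, sub_zero, hF, one_x4, ne_eq, OfNat.ofNat_ne_zero,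
      not_false_eq_true, zero_pow]

theorem cr_of_sq {u : Sy φ} (h6 : u.x6 = 0) (h2 : (2 : K) = 0) (h : u * u = 1) : cr φ u.x1 u.x5 = 0 := by
  have h3 := congrArg Sy.x3 h
  rw [mul_x3, h6, zero_smul, add_zero, one_x3, ← two_mul, h2, zero_mul, zero_add] at h3
  exact h3

/-- the images of the elements of `Z2` under automorphisms of `E` -/
theorem im_Z2 {E : Subgroup (Sy φ)} (hE : E ≤ Q2 φ) (h2 : (2 : K) = 0) (γ : MulAut E) (y : E)
    (hy : (y : Sy φ) ∈ Z2 φ) :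
    (∀ e ∈ E, ⁅((γ y : E) : Sy φ), e⁆ = 1) ∧ cr φ ((γ y : E) : Sy φ).x1 ((γ y : E) : Sy φ).x5 = 0 := by
  constructor
  · intro e he
    have hc : ∀ e' : E, y * e' = e' * y := by
      intro e'
      apply Subtype.ext
      have h1 : ⁅(e' : Sy φ), (y : Sy φ)⁆ = 1 := by
        rw [comm_Z2 hy, mem_Q2.1 (hE e'.2), zero_mul]; rfl
      rw [commutatorElement_eq_one_iff_mul_comm] at h1
      rw [Subgroup.coe_mul, Subgroup.coe_mul]
      exact h1.symm
    rw [commutatorElement_eq_one_iff_mul_comm]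
    have h3 := congrArg γ (hc (γ.symm ⟨e, he⟩))
    rw [map_mul, map_mul, MulEquiv.apply_symm_apply] at h3
    exact congrArg Subtype.val h3
  · refine cr_of_sq (mem_Q2.1 (hE (γ y).2)) h2 ?_
    have h1 : y * y = 1 := Subtype.ext (sq_Z2 h2 hy)
    have h3 := congrArg γ h1
    rw [map_mul, map_one] at h3
    exact congrArg Subtype.val h3

theorem shape (h2 : (2 : K) = 0) {a c : K} (h : cr φ a c = 0) : ∃ (b : K) (l m : F), b ≠ 0 ∧ a = l • b ∧ c = m • b := by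
  by_cases ha : a = 0
  · by_cases hc : c = 0
    · exact ⟨1, 0, 0, one_ne_zero, by rw [ha, zero_smul], by rw [hc, zero_smul]⟩
    · exact ⟨c, 0, 1, hc, by rw [ha, zero_smul], by rw [one_smul]⟩
  · obtain ⟨s, hs⟩ := cr_eq_zero_two φ h2 ha h
    exact ⟨a, 1, s, ha, by rw [one_smul], hs⟩

/-- `[u, e] = 1` for `u = (l a, m a)` -/
theorem comm_shape (h2 : (2 : K) = 0) {u e : Sy φ} (hu : u.x6 = 0) (he : e.x6 = 0) (h : ⁅u, e⁆ = 1) {a : K} {l m : F}
    (ha : a ≠ 0) (h1 : u.x1 = l • a) (h5 : u.x5 = m • a) : ∃ κ : F, l • e.x5 - m • e.x1 = κ • a := by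
  have h3 := congrArg Sy.x3 h
  rw [comm_Q2_x3 hu he, one_x3, h1, h5, cr_smul_left, cr_smul_right, cr_comm φ e.x1 a, ← cr_smul_right,
    ← cr_smul_right, sub_eq_add_neg, ← cr_neg_right, ← cr_add_right, ← sub_eq_add_neg] at h3
  exact cr_eq_zero_two φ h2 ha h3

/-- `v ∉ F a` gives `b` with `tr (a b) = 0`, `tr (v b) = t` -/
theorem exists_b {a v : K} (ha : a ≠ 0) (hv : ∀ s : F, v ≠ s • a) (t : F) :
    ∃ b : K, tr φ (a * b) = 0 ∧ tr φ (v * b) = t := by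
  by_contra hcon
  have h0 : ∀ b : K, tr φ (a * b) = 0 → tr φ (v * b) = 0 := by
    intro b hb
    by_contra hne
    apply hcon
    refine ⟨(t * (tr φ (v * b))⁻¹) • b, ?_, ?_⟩
    · rw [mul_smul_comm, tr_smul, hb, mul_zero]
    · rw [mul_smul_comm, tr_smul, mul_assoc, inv_mul_cancel₀ hne, mul_one]
  obtain ⟨b0, hb0⟩ : ∃ b0, tr φ (a * b0) ≠ 0 := by
    by_contra hc
    push Not at hc
    exact ha (tr_nondeg φ hc)
  refine hv (tr φ (v * b0) * (tr φ (a * b0))⁻¹) (sub_eq_zero.1 (tr_nondeg φ fun b => ?_))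
  have h1 := h0 (b - (tr φ (a * b) * (tr φ (a * b0))⁻¹) • b0) (by
    rw [mul_sub, tr_sub, mul_smul_comm, tr_smul, mul_assoc, inv_mul_cancel₀ hb0, mul_one, sub_self])
  rw [mul_sub, tr_sub, mul_smul_comm, tr_smul] at h1
  rw [sub_mul, tr_sub, smul_mul_assoc, tr_smul, sub_eq_zero, sub_eq_zero.1 h1]
  ring

theorem card_pow_le [Finite F] [Finite K] (φ : K ≃ₐ[F] K) [Cub φ] : Nat.card F ^ 3 ≤ Nat.card K := by
  have hfin : FiniteDimensional F K := inferInstance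
  have h3 : orderOf φ = 3 := by
    have : Fact (Nat.Prime 3) := ⟨Nat.prime_three⟩
    refine orderOf_eq_prime ?_ ?_
    · ext t
      exact phi3 φ t
    · obtain ⟨t, ht⟩ := Cub.ne (φ := φ)
      intro h
      exact ht (by rw [h]; rfl)
  have h4 : 3 ≤ Module.finrank F K := by
    rw [← h3]
    exact (orderOf_le_card).trans ((Nat.card_eq_fintype_card (α := (K ≃ₐ[F] K))).le.trans AlgEquiv.card_le)
  rw [Module.natCard_eq_pow_finrank (K := F) (V := K)]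
  exact Nat.pow_le_pow_right Nat.card_pos h4

/-- the subgroup `A = {x ∈ Z3 | tr (a x3) = 0}` -/
def Ap (φ : K ≃ₐ[F] K) [Cub φ] (a : K) : Subgroup (Sy φ) where
  carrier := {x | x ∈ Z3 φ ∧ tr φ (a * x.x3) = 0}
  one_mem' := ⟨one_mem _, by rw [one_x3, mul_zero, tr_zero]⟩
  mul_mem' {x y} hx hy := by
    refine ⟨mul_mem hx.1 hy.1, ?_⟩
    rw [mul_x3, hx.1.1, cr_zero_left, sh_zero, smul_zero, add_zero, add_zero, mul_add, tr_add, hx.2, hy.2, add_zero]
  inv_mem' {x} hx := by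
    refine ⟨inv_mem hx.1, ?_⟩
    rw [inv_x3, hx.1.1, cr_zero_left, sh_zero, smul_zero, sub_zero, add_zero, mul_neg, tr_neg, hx.2, neg_zero]

theorem mem_Ap {a : K} {x : Sy φ} : x ∈ Ap φ a ↔ x ∈ Z3 φ ∧ tr φ (a * x.x3) = 0 := Iff.rfl

theorem com_eq (a b : Sy φ) : a * b * a⁻¹ * b⁻¹ = ⁅a, b⁆ := rfl

/-- commutator of `u` with `x1 = α a + l v`, ... with an element of `Z3` -/
theorem comm_eq_mk {u x : Sy φ} (hu : u.x6 = 0) (hx : x ∈ Z3 φ) :
    ⁅u, x⁆ = ⟨0, 0, 0, 0, tr φ (u.x1 * x.x3), -tr φ (x.x3 * u.x5)⟩ := by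
  obtain ⟨h1, h6, h5, h3⟩ := comm_mem_Z2 (x := u) hx
  ext
  · exact h1
  · exact h6
  · exact h5
  · exact h3
  · exact comm_x2' hx
  · rw [comm_x4' hx, hu]
    simp only [zero_mul, add_zero, zero_sub]

end Gen

section Main

variable {F K : Type u} [Field F] [Field K] [Finite F] [Finite K] [Algebra F K] {φ : K ≃ₐ[F] K} [Cub φ]

theorem Z2_le_of_ess {p : ℕ} {E : Subgroup (Sy φ)} {Γ : Subgroup (MulAut E)} (h : Ess ⊤ E p Γ) (hQ : E ≤ Q2 φ) :
    Z2 φ ≤ E := by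
  intro x hx
  refine h.cent x trivial fun e he => ?_
  have h1 : ⁅e, x⁆ = 1 := by
    rw [comm_Z2 hx, mem_Q2.1 (hQ he), zero_mul]; rfl
  rw [commutatorElement_eq_one_iff_mul_comm] at h1
  exact h1.symm

theorem com_Z3 {E : Subgroup (Sy φ)} (A : Subgroup (Sy φ)) (hA : A ≤ Z3 φ) : Com A E (Z2 φ) := by
  intro a ha e _
  rw [com_eq, ← commutatorElement_inv]
  exact inv_mem (comm_mem_Z2 (hA ha))

/-- Case I: all `x1`, `x5` lie in `F a` -/
theorem caseI [CharP K 2] {E : Subgroup (Sy φ)} {Γ : Subgroup (MulAut E)} (hbd : StBd.{u}) (h : Ess ⊤ E 2 Γ)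
    (hQ : E ≤ Q2 φ) {a : K} (hA : Ap φ a ≤ E)
    (hall : ∀ x ∈ E, (∃ s : F, x.x1 = s • a) ∧ ∃ s : F, x.x5 = s • a) : False := by
  have h2 : (2 : K) = 0 := by exact_mod_cast CharP.cast_eq_zero K 2
  have hcr : ∀ q : K, tr φ (a * cr φ q a) = 0 := fun q => by
    rw [mul_comm, tr_cr, cr_self, h2, zero_mul, mul_zero, tr_zero]
  have hN : Q2 φ ≤ normalizerIn ⊤ E := by
    have hc : ∀ q ∈ Q2 φ, ∀ x ∈ E, ⁅q, x⁆ ∈ E := by
      intro q hq x hx
      apply hA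
      refine ⟨comm_Q2_mem hq (hQ hx), ?_⟩
      obtain ⟨⟨s, hs⟩, ⟨t, ht⟩⟩ := hall x hx
      rw [comm_Q2_x3 hq (hQ hx), hs, ht, cr_smul_left, cr_smul_right, mul_sub, tr_sub, mul_smul_comm, mul_smul_comm,
        tr_smul, tr_smul, hcr, cr_comm φ a, hcr, mul_zero, mul_zero, sub_zero]
    intro q hq
    refine ⟨trivial, Subgroup.mem_normalizer_iff.2 fun x => ⟨fun hx => ?_, fun hx => ?_⟩⟩
    · have : q * x * q⁻¹ = ⁅q, x⁆ * x := by rw [commutatorElement_def]; group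
      rw [this]
      exact mul_mem (hc q hq x hx) hx
    · have h1 : x = ⁅q⁻¹, q * x * q⁻¹⁆ * (q * x * q⁻¹) := by rw [commutatorElement_def]; group
      rw [h1]
      exact mul_mem (hc _ (inv_mem hq) _ hx) hx
  have h3 := hbd h (Q2 φ) ⊥ hN bot_le
  have h4 : (⊥ : Subgroup (Sy φ)).relIndex E * E.relIndex (Q2 φ) = (⊥ : Subgroup (Sy φ)).relIndex (Q2 φ) :=
    Subgroup.relIndex_mul_relIndex _ _ _ bot_le hQ
  rw [Subgroup.relIndex_bot_left] at h3
  rw [Subgroup.relIndex_bot_left, Subgroup.relIndex_bot_left, card_Q2] at h4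
  have h5 : Nat.card E ≤ Nat.card F ^ 4 * Nat.card K := by
    have h6 : Nat.card (F × F × F × F × K) = Nat.card F ^ 4 * Nat.card K := by
      rw [Nat.card_prod, Nat.card_prod, Nat.card_prod, Nat.card_prod]; ring
    rw [← h6]
    choose f hf using fun x : E => (hall x.1 x.2).1
    choose g hg using fun x : E => (hall x.1 x.2).2
    refine Nat.card_le_card_of_injective (fun x : E => (f x, g x, x.1.x2, x.1.x4, x.1.x3)) ?_
    intro x y hxy
    simp only [Prod.mk.injEq] at hxy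
    obtain ⟨e1, e2, e3, e4, e5⟩ := hxy
    apply Subtype.ext
    ext
    · rw [hf, hf, e1]
    · rw [mem_Q2.1 (hQ x.2), mem_Q2.1 (hQ y.2)]
    · rw [hg, hg, e2]
    · exact e5
    · exact e3
    · exact e4
  have h7 := card_pow_le φ
  have hF1 : 1 < Nat.card F := Finite.one_lt_card
  set q := Nat.card F with hq
  set k := Nat.card K with hk
  set n := Nat.card E with hn
  have h8 : (k ^ 3 * q ^ 2) ^ 2 ≤ n ^ 3 := by
    rw [← h4, mul_pow, pow_succ n 2]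
    exact Nat.mul_le_mul_left _ h3
  have h9 : n ^ 3 ≤ (q ^ 4 * k) ^ 3 := Nat.pow_le_pow_left h5 3
  have h10 : q ^ 4 * k ^ 3 * k ^ 3 ≤ q ^ 4 * k ^ 3 * q ^ 8 := by
    calc q ^ 4 * k ^ 3 * k ^ 3 = (k ^ 3 * q ^ 2) ^ 2 := by ring
      _ ≤ (q ^ 4 * k) ^ 3 := h8.trans h9
      _ = q ^ 4 * k ^ 3 * q ^ 8 := by ring
  have hk0 : 0 < k := Nat.card_pos
  have h11 : k ^ 3 ≤ q ^ 8 := Nat.le_of_mul_le_mul_left h10 (by positivity)
  have h12 : (q ^ 3) ^ 3 ≤ q ^ 8 := (Nat.pow_le_pow_left h7 3).trans h11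
  rw [← pow_mul] at h12
  have := (Nat.pow_le_pow_iff_right hF1).1 h12
  omega

theorem stB2 (hphi : StPhi.{u}) (hbd : StBd.{u}) (hhull : StHull.{u}) : StB2.{u} := by
  intro F K _ _ _ _ _ φ _ _ E Γ h hQ hL
  have h2 : (2 : K) = 0 := by exact_mod_cast CharP.cast_eq_zero K 2
  by_contra hZ
  have hZ2 := Z2_le_of_ess h hQ
  obtain ⟨γ, hγ, z, hz, w, hw, hne⟩ := hhull h (Z3 φ) (Z2 φ) le_top hZ2 (com_Z3 _ le_rfl) hZ
  have hphi' := (hphi E 2 Nat.prime_two inferInstance (h.pgr.to_le h.E_le)).2.1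
  obtain ⟨hcu, hcru⟩ := im_Z2 hQ h2 γ z hz
  have huE : ((γ z : E) : Sy φ) ∈ E := (γ z).2
  rw [com_eq] at hne
  revert hcu hcru huE hne
  generalize ((γ z : E) : Sy φ) = u
  intro hwu hcu hcru huE
  have hu6 : u.x6 = 0 := hQ huE
  obtain ⟨a, l, m, ha, h1, h5⟩ := shape (F := F) h2 hcru
  have hwu' : ⁅u, w⁆ ∉ Phi E := fun hc => hwu (by rw [← commutatorElement_inv]; exact inv_mem hc)
  have hlm : l ≠ 0 ∨ m ≠ 0 := by
    by_contra hc
    push Not at hc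
    apply hwu'
    rw [comm_eq_mk hu6 hw, h1, h5, hc.1, hc.2, zero_smul, zero_mul, mul_zero, tr_zero, neg_zero]
    exact one_mem _
  -- the element `e0`
  obtain ⟨e0, he0, hk0⟩ : ∃ e ∈ E, l • e.x5 - m • e.x1 ≠ 0 := by
    by_contra hc
    push Not at hc
    refine hL ⟨-m, l, hlm.symm.imp neg_ne_zero.2 id, fun x hx => ?_⟩
    rw [neg_smul, neg_add_eq_sub]
    exact hc x hx
  obtain ⟨κ, hκ⟩ := comm_shape h2 hu6 (hQ he0) (hcu e0 he0) ha h1 h5
  -- all images of elements of `Z2`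
  have him : ∀ (γ' : MulAut E) (z' : E), (z' : Sy φ) ∈ Z2 φ →
      ∃ s t : F, ((γ' z' : E) : Sy φ).x1 = s • a ∧ ((γ' z' : E) : Sy φ).x5 = t • a := by
    intro γ' z' hz'
    obtain ⟨hcv, hcrv⟩ := im_Z2 hQ h2 γ' z' hz'
    have hvE : ((γ' z' : E) : Sy φ) ∈ E := (γ' z').2
    revert hcv hcrv hvE
    generalize ((γ' z' : E) : Sy φ) = v
    intro hcv hcrv hvE
    have hv6 : v.x6 = 0 := hQ hvE
    obtain ⟨b, l', m', hb, h1', h5'⟩ := shape (F := F) h2 hcrv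
    have h3 := congrArg Sy.x3 (hcv u huE)
    rw [comm_Q2_x3 hv6 hu6, one_x3, h1, h5, h1', h5', cr_smul_left, cr_smul_left, cr_smul_right, cr_smul_right,
      cr_comm φ a b, smul_smul, smul_smul, ← sub_smul, smul_eq_zero] at h3
    rcases h3 with h3 | h3
    · -- `(l', m')` is a multiple of `(l, m)`
      obtain ⟨c, hc1, hc2⟩ : ∃ c : F, l' = c * l ∧ m' = c * m := by
        rcases hlm with hl | hm
        · refine ⟨l' * l⁻¹, ?_, ?_⟩
          · field_simp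
          · field_simp
            linear_combination -h3
        · refine ⟨m' * m⁻¹, ?_, ?_⟩
          · field_simp
            linear_combination h3
          · field_simp
      by_cases hc0 : c = 0
      · refine ⟨0, 0, ?_, ?_⟩
        · rw [h1', hc1, hc0, zero_mul, zero_smul, zero_smul]
        · rw [h5', hc2, hc0, zero_mul, zero_smul, zero_smul]
      obtain ⟨κ', hκ'⟩ := comm_shape h2 hv6 (hQ he0) (hcv e0 he0) hb h1' h5'
      rw [hc1, hc2, mul_smul, mul_smul, ← smul_sub, hκ] at hκ'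
      have hk' : κ' ≠ 0 := by
        intro h0
        rw [h0, zero_smul] at hκ'
        rcases smul_eq_zero.1 hκ' with h4 | h4
        · exact hc0 h4
        · exact hk0 (hκ.trans h4)
      have hba : b = (κ'⁻¹ * c * κ) • a := by
        rw [mul_smul, mul_smul, hκ', smul_smul, inv_mul_cancel₀ hk', one_smul]
      exact ⟨_, _, by rw [h1', hba, smul_smul], by rw [h5', hba, smul_smul]⟩
    · obtain ⟨s, hs⟩ := cr_eq_zero_two φ h2 ha (by rw [cr_comm]; exact h3)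
      exact ⟨_, _, by rw [h1', hs, smul_smul], by rw [h5', hs, smul_smul]⟩
  -- `A ≤ E`
  have hA : Ap φ a ≤ E := by
    by_contra hA
    obtain ⟨γ', _, z', hz', x, hx, hne'⟩ := hhull h (Ap φ a) (Z2 φ) le_top hZ2 (com_Z3 _ fun _ hy => hy.1) hA
    obtain ⟨s, t, hs, ht⟩ := him γ' z' hz'
    have h6 : ((γ' z' : E) : Sy φ).x6 = 0 := hQ (γ' z').2
    apply hne'
    rw [com_eq, ← commutatorElement_inv, comm_eq_mk h6 hx.1, hs, ht, smul_mul_assoc, tr_smul, hx.2, mul_zero,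
      mul_smul_comm, tr_smul, mul_comm x.x3, hx.2, mul_zero, neg_zero]
    exact inv_mem (one_mem _)
  by_cases hall : ∀ x ∈ E, (∃ s : F, x.x1 = s • a) ∧ ∃ s : F, x.x5 = s • a
  · exact caseI hbd h hQ hA hall
  -- Case II
  push Not at hall
  obtain ⟨e1, he1, hn⟩ := hall
  obtain ⟨κ1, hκ1⟩ := comm_shape h2 hu6 (hQ he1) (hcu e1 he1) ha h1 h5
  obtain ⟨v, n1, n2, hv1, hv5, hva⟩ : ∃ (v : K) (n1 n2 : F), e1.x1 = l • v + n1 • a ∧ e1.x5 = m • v + n2 • a ∧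
      ∀ s : F, v ≠ s • a := by
    by_cases hl : l = 0
    · have hm : m ≠ 0 := hlm.resolve_left (fun h => h hl)
      rw [hl, zero_smul, zero_sub] at hκ1
      have e2 : e1.x1 = (-(m⁻¹ * κ1)) • a := by
        rw [neg_smul, mul_smul, ← hκ1, smul_neg, neg_neg, smul_smul, inv_mul_cancel₀ hm, one_smul]
      refine ⟨m⁻¹ • e1.x5, -(m⁻¹ * κ1), 0, ?_, ?_, fun s hs => ?_⟩
      · rw [hl, zero_smul, zero_add, e2]
      · rw [smul_smul, mul_inv_cancel₀ hm, one_smul, zero_smul, add_zero]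
      · refine hn ⟨_, e2⟩ (m * s) ?_
        rw [mul_smul, ← hs, smul_smul, mul_inv_cancel₀ hm, one_smul]
    · have e2 : e1.x5 = m • (l⁻¹ • e1.x1) + (l⁻¹ * κ1) • a := by
        rw [mul_smul, ← hκ1, smul_sub, smul_smul l⁻¹ l, inv_mul_cancel₀ hl, one_smul, smul_comm m l⁻¹]
        abel
      refine ⟨l⁻¹ • e1.x1, 0, l⁻¹ * κ1, ?_, e2, fun s hs => ?_⟩
      · rw [smul_smul, mul_inv_cancel₀ hl, one_smul, zero_smul, add_zero]
      · have e3 : e1.x1 = (l * s) • a := by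
          rw [mul_smul, ← hs, smul_smul, mul_inv_cancel₀ hl, one_smul]
        refine hn ⟨_, e3⟩ (m * s + l⁻¹ * κ1) ?_
        rw [add_smul, mul_smul m s, ← hs]
        exact e2
  obtain ⟨b, hb1, hb2⟩ := exists_b (φ := φ) ha hva (tr φ (a * w.x3))
  have hbZ : u3 φ b ∈ Z3 φ := u3_mem (φ := φ) b
  have hbE : u3 φ b ∈ E := hA ⟨hbZ, hb1⟩
  apply hwu'
  have h7 : ⁅e1, u3 φ b⁆ ∈ Phi E := hphi' e1 he1 _ hbE
  rw [comm_eq_mk (hQ he1) hbZ] at h7
  rw [comm_eq_mk hu6 hw]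
  have e7 : Sy.x3 (u3 φ b) = b := rfl
  rw [e7, hv1, hv5, add_mul, mul_add, tr_add, tr_add, smul_mul_assoc, smul_mul_assoc, mul_smul_comm, mul_smul_comm,
    tr_smul, tr_smul, tr_smul, tr_smul, mul_comm b v, mul_comm b a, hb1, hb2, mul_zero, mul_zero, add_zero,
    add_zero] at h7
  rw [h1, h5, smul_mul_assoc, tr_smul, mul_smul_comm, tr_smul, mul_comm w.x3]
  exact h7

end Main

end Cfsg.Agent.H167.TE
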